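import Cfsg.Agent.H680.HNF.ThreeB
import Cfsg.Agent.H728.Four.HNThreeComm

/-!
# `HN` has no elements of order 45 (helper680)
-/

set_option autoImplicit false

namespace Cfsg.Agent.H680.HNF

open Subgroup Cfsg
open Cfsg.Agent
open Cfsg.Agent.CpAutHN.Alt
open Cfsg.Agent.CpAutHN.Pairs
open Cfsg.Agent.H569.HNThree
open Cfsg.Agent.CpAutHN.Second
open Cfsg.Agent.CpAutHN.NineAlt

/-- elements of prime order `≠ 3` commuting with `X3` and `X1` -/
theorem prime_x1m {m : MM} {r : ℕ} (hr : r.Prime) (hm' : orderOf m = r) (hr3 : r ≠ 3) (h1 : m * x1m = x1m * m) :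
    r = 2 := by
  have hcop : r.Coprime 3 := (Nat.coprime_primes hr Nat.prime_three).2 hr3
  have h2 : (m : G) * X1 = X1 * (m : G) := congrArg Subtype.val h1
  let m1 : H678.HNT.Cent.C1 := ⟨(m : G), mem_centralizer_singleton_iff.2 h2⟩
  have hm1 : orderOf m1 = r := by
    rw [← Subgroup.orderOf_coe]
    change orderOf (m : G) = r
    rw [Subgroup.orderOf_coe, hm']
  obtain ⟨i, a, hia⟩ := H678.HNT.Cent.main m1
  have hx3 : (H678.HNT.Cent.xx : H678.HNT.Cent.C1) ^ 3 = 1 := by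
    rw [← H678.HNT.Cent.order_xx, pow_orderOf_eq_one]
  have h3 : m1 ^ 3 = Ψ (a ^ 3) := by
    have hc : Commute (H678.HNT.Cent.xx ^ i) (Ψ a) :=
      (show Commute H678.HNT.Cent.xx (Ψ a) from H678.HNT.Cent.xx_comm _).zpow_left i
    rw [hia, hc.mul_pow, ← zpow_natCast, ← zpow_mul, mul_comm, zpow_mul, zpow_natCast, hx3, one_zpow, one_mul, map_pow]
  obtain ⟨s, hs⟩ : ∃ s : ℕ, 3 * s ≡ 1 [MOD r] := by
    obtain ⟨s, -, hs⟩ := Nat.exists_mul_mod_eq_one_of_coprime hcop.symm hr.one_lt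
    exact ⟨s, by rw [Nat.ModEq, hs, Nat.mod_eq_of_lt hr.one_lt]⟩
  have h4 : m1 = Ψ (a ^ (3 * s)) := by
    rw [pow_mul, map_pow, ← h3, ← pow_mul]
    conv_lhs => rw [← pow_one m1]
    rw [pow_eq_pow_iff_modEq, hm1]
    exact hs.symm
  have h5 : orderOf (a ^ (3 * s)) = r := by
    rw [← orderOf_injective Ψ Ψ_inj, ← h4, hm1]
  have h6 : a ^ (3 * s) * x9 = x9 * a ^ (3 * s) := by
    apply Ψ_inj
    rw [map_mul, map_mul, ← h4]
    apply Subtype.ext
    change (m : G) * ((Ψ x9 : ↥(centralizer ({X1} : Set G))) : G) = ((Ψ x9 : ↥(centralizer ({X1} : Set G))) : G) * (m : G)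
    rw [coe_x9]
    exact mem_centralizer_singleton_iff.1 m.2
  have h7 := order_dvd_x9 h6
  rw [h5, show (162 : ℕ) = 2 * 3 ^ 4 by norm_num] at h7
  rcases hr.dvd_mul.1 h7 with h8 | h8
  · exact (Nat.prime_dvd_prime_iff_eq hr Nat.prime_two).1 h8
  · exact absurd ((Nat.prime_dvd_prime_iff_eq hr Nat.prime_three).1 (hr.dvd_of_dvd_pow h8)) hr3

/-- **the dichotomy for elements of order 3** -/
theorem dich {x : G} (hx : orderOf x = 3) : ∃ c : G, c * x * c⁻¹ = X1 ∨ c * x * c⁻¹ = X3 := by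
  obtain ⟨t, ht, hc⟩ := Cfsg.Agent.H728.Four.HN3C.comm_inv (a := x) (by rw [← hx, pow_orderOf_eq_one])
  exact conj_of_comm (y := x) (t := t) ⟨1, by rw [pow_one, ← hx, pow_orderOf_eq_one]⟩ ht hc.symm
    (by rintro rfl; rw [orderOf_one] at hx; norm_num at hx)

/-- no element has cube `X1` -/
theorem no_cube_X1 {x : G} (h : x ^ 3 = X1) : False := by
  have hx : x * X1 = X1 * x := by rw [← h, ← pow_succ, ← pow_succ']
  obtain ⟨i, a, hia⟩ := H678.HNT.Cent.main ⟨x, mem_centralizer_singleton_iff.2 hx⟩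
  have hx3 : (H678.HNT.Cent.xx : H678.HNT.Cent.C1) ^ 3 = 1 := by
    rw [← H678.HNT.Cent.order_xx, pow_orderOf_eq_one]
  have hc : Commute (H678.HNT.Cent.xx ^ i) (Ψ a) :=
    (show Commute H678.HNT.Cent.xx (Ψ a) from H678.HNT.Cent.xx_comm _).zpow_left i
  have h3 : (⟨x, mem_centralizer_singleton_iff.2 hx⟩ : H678.HNT.Cent.C1) ^ 3 = Ψ (a ^ 3) := by
    rw [hia, hc.mul_pow, ← zpow_natCast, ← zpow_mul, mul_comm, zpow_mul, zpow_natCast, hx3, one_zpow, one_mul, map_pow]
  have h4 : H678.HNT.Cent.xx = Ψ (a ^ 3) := by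
    rw [← h3]
    exact Subtype.ext h.symm
  have h5 : Ψ (a ^ 3) ∈ H678.HNT.Cent.DD ⊓ pPrimeCore 2 H678.HNT.Cent.C1 :=
    ⟨⟨a ^ 3, rfl⟩, by rw [← h4]; exact H678.HNT.Cent.xx_core⟩
  rw [H678.HNT.inf_core H678.HNT.Cent.DD H678.HNT.Cent.two_dvd, mem_bot, ← h4] at h5
  have h6 := H678.HNT.Cent.order_xx
  rw [h5, orderOf_one] at h6
  norm_num at h6

/-- a 5-element acting on a group of order 81 -/
theorem fixed_all {M : Type*} [Group M] [Finite M] (N : Subgroup M) [hN : N.Normal] {b : M} (hb : b ^ 5 = 1)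
    (hcard : Nat.card N = 81) {x : M} (hx : x ∈ N) (hx1 : x ≠ 1) (hbx : b * x = x * b) :
    ∀ n ∈ N, b * n = n * b := by
  have : Fact (Nat.Prime 5) := ⟨by norm_num⟩
  let f : zpowers b →* MulAut N := (MulAut.conjNormal (H := N)).comp (zpowers b).subtype
  let _ : MulAction (zpowers b) N := MulAction.compHom N f
  have hp : IsPGroup 5 (zpowers b) := by
    rintro ⟨_, m, rfl⟩
    refine ⟨1, Subtype.ext ?_⟩
    change (b ^ m) ^ 5 ^ 1 = 1
    rw [pow_one, ← zpow_natCast, ← zpow_mul, mul_comm, zpow_mul, zpow_natCast, hb, one_zpow]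
  have h1 := hp.card_modEq_card_fixedPoints N
  have hsm : ∀ (z : zpowers b) (n : N), ((z • n : N) : M) = (z : M) * n * (z : M)⁻¹ := fun z n =>
    MulAut.conjNormal_apply _ _
  have h2 : Nat.card (MulAction.fixedPoints (zpowers b) N) = Nat.card ↥(N ⊓ centralizer ({b} : Set M)) := by
    refine Nat.card_congr
      { toFun := fun n => ⟨((n : N) : M), (n : N).2, ?_⟩
        invFun := fun n => ⟨⟨(n : M), n.2.1⟩, ?_⟩
        left_inv := fun _ => rfl
        right_inv := fun _ => rfl }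
    · have h3 := congrArg Subtype.val (n.2 ⟨b, mem_zpowers b⟩)
      rw [hsm] at h3
      exact mem_centralizer_singleton_iff.2 (mul_inv_eq_iff_eq_mul.1 h3).symm
    · rintro ⟨_, m, rfl⟩
      apply Subtype.ext
      rw [hsm]
      have h3 : Commute b (n : M) := (mem_centralizer_singleton_iff.1 n.2.2).symm
      change b ^ m * (n : M) * (b ^ m)⁻¹ = n
      rw [(h3.zpow_left m).eq, mul_inv_cancel_right]
  rw [h2, hcard] at h1
  have h3 : Nat.card ↥(N ⊓ centralizer ({b} : Set M)) ∣ 81 := by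
    rw [← hcard]
    exact Subgroup.card_dvd_of_le inf_le_left
  have h4 : Nat.card ↥(N ⊓ centralizer ({b} : Set M)) ≠ 1 := by
    intro h
    have h5 := Subgroup.card_eq_one.1 h
    have h6 : x ∈ N ⊓ centralizer ({b} : Set M) := ⟨hx, mem_centralizer_singleton_iff.2 hbx.symm⟩
    rw [h5, mem_bot] at h6
    exact hx1 h6
  have h5 : Nat.card ↥(N ⊓ centralizer ({b} : Set M)) = 81 := by
    generalize Nat.card ↥(N ⊓ centralizer ({b} : Set M)) = c at *
    obtain ⟨i, hi, rfl⟩ := (Nat.dvd_prime_pow Nat.prime_three (m := 4)).1 (by norm_num; exact h3)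
    unfold Nat.ModEq at h1
    interval_cases i
    · norm_num at h4
    · norm_num at h1
    · norm_num at h1
    · norm_num at h1
    · norm_num
  have h6 : N ⊓ centralizer ({b} : Set M) = N := Subgroup.eq_of_le_of_card_ge inf_le_left (by rw [h5, hcard])
  intro n hn
  rw [← h6] at hn
  exact (mem_centralizer_singleton_iff.1 hn.2).symm

section five

variable {b x : MM} (hb : orderOf b = 5) (hx : x ^ 3 = xm) (hbx : b * x = x * b)

theorem xm_pow : xm ^ 3 = 1 := by rw [← order_xm, pow_orderOf_eq_one]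

include hb in
theorem b_not_core : b ∉ pPrimeCore 2 MM := by
  intro h
  have h1 := orderOf_dvd_natCard (⟨b, h⟩ : pPrimeCore 2 MM)
  rw [← Subgroup.orderOf_coe, card_core] at h1
  change orderOf b ∣ 243 at h1
  rw [hb] at h1
  norm_num at h1

include hb hx hbx in
theorem x_core : x ∈ pPrimeCore 2 MM := by
  have hx9 : x ^ 9 = 1 := by rw [show 9 = 3 * 3 by norm_num, pow_mul, hx, xm_pow]
  have hb5 : b ^ 5 = 1 := by rw [← hb, pow_orderOf_eq_one]
  have hc : Commute x b := hbx.symm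
  have h15 : (x * b) ^ 15 ∈ pPrimeCore 2 MM := by
    rw [hc.mul_pow, show 15 = 5 * 3 by norm_num, pow_mul b, hb5, one_pow, mul_one, mul_comm, pow_mul, hx]
    exact (pPrimeCore 2 MM).pow_mem xm_core 5
  rcases no_fifteen h15 with h | h
  · rw [hc.mul_pow, show 10 = 5 * 2 by norm_num, pow_mul b, hb5, one_pow, mul_one, show 5 * 2 = 9 + 1 by norm_num,
      pow_succ, hx9, one_mul] at h
    exact h
  · exfalso
    apply b_not_core hb
    rw [hc.mul_pow, show 6 = 5 + 1 by norm_num, pow_succ b, hb5, one_mul, show 5 + 1 = 3 * 2 by norm_num, pow_mul, hx] at h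
    have h1 := (pPrimeCore 2 MM).mul_mem ((pPrimeCore 2 MM).inv_mem ((pPrimeCore 2 MM).pow_mem xm_core 2)) h
    rwa [inv_mul_cancel_left] at h1

include hb hx hbx in
theorem false_X3 : False := by
  have hn : (pPrimeCore 2 MM).Normal := Lib.Cores.pPrimeCore_normal 2
  have hxc := x_core hb hx hbx
  have hb5 : b ^ 5 = 1 := by rw [← hb, pow_orderOf_eq_one]
  have hxmN : (zpowers xm).Normal := by
    constructor
    intro z hz y
    obtain ⟨k, rfl⟩ := mem_zpowers_iff.1 hz
    rw [← ((show Commute xm y from xm_comm y).zpow_left k).eq, mul_inv_cancel_right]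
    exact zpow_mem (mem_zpowers xm) k
  -- the quotient
  let π : MM →* MM ⧸ zpowers xm := QuotientGroup.mk' (zpowers xm)
  have hle : zpowers xm ≤ pPrimeCore 2 MM := by rw [zpowers_le]; exact xm_core
  have hNn : ((pPrimeCore 2 MM).map π).Normal := Subgroup.Normal.map hn _ (QuotientGroup.mk'_surjective _)
  have hcard : Nat.card ↥((pPrimeCore 2 MM).map π) = 81 := by
    have h1 : Nat.card ↥((pPrimeCore 2 MM).map π) = ((zpowers xm).subgroupOf (pPrimeCore 2 MM)).index := by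
      have h2 : (pPrimeCore 2 MM).map π = (π.comp (pPrimeCore 2 MM).subtype).range := by
        rw [MonoidHom.range_comp, Subgroup.range_subtype]
      have h3 : (π.comp (pPrimeCore 2 MM).subtype).ker = (zpowers xm).subgroupOf (pPrimeCore 2 MM) := by
        ext o
        rw [MonoidHom.mem_ker, MonoidHom.comp_apply, mem_subgroupOf]
        exact QuotientGroup.eq_one_iff _
      rw [h2, ← h3, Subgroup.index_ker]
    have h2 := ((zpowers xm).subgroupOf (pPrimeCore 2 MM)).card_mul_index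
    rw [Nat.card_congr (subgroupOfEquivOfLe hle).toEquiv, Nat.card_zpowers, order_xm, card_core] at h2
    rw [h1]
    omega
  have hx1 : π x ≠ 1 := by
    intro h
    obtain ⟨k, hk⟩ := mem_zpowers_iff.1 ((QuotientGroup.eq_one_iff x).1 h)
    have h1 : x ^ 3 = 1 := by
      rw [← hk, ← zpow_natCast, ← zpow_mul, mul_comm, zpow_mul, zpow_natCast, xm_pow, one_zpow]
    rw [hx] at h1
    have h2 := order_xm
    rw [h1, orderOf_one] at h2
    norm_num at h2
  have hall := fixed_all ((pPrimeCore 2 MM).map π) (b := π b) (by rw [← map_pow, hb5, map_one]) hcard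
    (x := π x) ⟨x, hxc, rfl⟩ hx1 (by rw [← map_mul, hbx, map_mul]) (π x1m) ⟨x1m, x1m_core, rfl⟩
  rw [← map_mul, ← map_mul] at hall
  obtain ⟨k, hk⟩ := mem_zpowers_iff.1 (QuotientGroup.eq.1 hall)
  have hk' : b * x1m * b⁻¹ = x1m * xm ^ (-k) := by
    have e : xm ^ (-k) * b⁻¹ = b⁻¹ * xm ^ (-k) := ((show Commute xm b⁻¹ from xm_comm _).zpow_left _).eq
    have h1 : x1m * b = b * x1m * xm ^ k := by rw [hk]; group
    have h2 : b * x1m = x1m * b * xm ^ (-k) := by rw [h1, zpow_neg, mul_inv_cancel_right]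
    calc b * x1m * b⁻¹ = x1m * b * (xm ^ (-k) * b⁻¹) := by rw [h2]; group
      _ = _ := by rw [e]; group
  generalize -k = k at hk'
  have hj : ∀ j : ℕ, b ^ j * x1m * (b ^ j)⁻¹ = x1m * xm ^ (k * j) := by
    intro j
    induction j with
    | zero => simp
    | succ j ih =>
      have e : b * xm ^ (k * j) = xm ^ (k * j) * b := ((show Commute xm b from xm_comm _).zpow_left _).eq.symm
      calc b ^ (j + 1) * x1m * (b ^ (j + 1))⁻¹ = b * (b ^ j * x1m * (b ^ j)⁻¹) * b⁻¹ := by rw [pow_succ']; group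
        _ = b * x1m * (xm ^ (k * j) * b⁻¹) := by rw [ih]; group
        _ = b * x1m * b⁻¹ * xm ^ (k * j) := by
          have e2 : xm ^ (k * j) * b⁻¹ = b⁻¹ * xm ^ (k * j) := ((show Commute xm b⁻¹ from xm_comm _).zpow_left _).eq
          rw [e2]; group
        _ = x1m * (xm ^ k * xm ^ (k * j)) := by rw [hk']; group
        _ = _ := by rw [← zpow_add]; congr 2; push_cast; ring
  have h5 := hj 5
  rw [hb5, one_mul, inv_one, mul_one] at h5
  have h6 : xm ^ (k * ((5 : ℕ) : ℤ)) = 1 := mul_eq_left.1 h5.symm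
  have h7 : xm ^ k = 1 := by
    rw [← orderOf_dvd_iff_zpow_eq_one, order_xm] at h6 ⊢
    push_cast at h6 ⊢
    omega
  rw [h7, mul_one, mul_inv_eq_iff_eq_mul] at hk'
  have h8 := prime_x1m (by norm_num : Nat.Prime 5) hb (by norm_num) hk'
  norm_num at h8

end five

/-- **no elements of order 45** -/
theorem no45 : ∀ b x : G, orderOf b = 5 → orderOf x = 9 → b * x ≠ x * b := by
  intro b x hb hx hbx
  have h3 : orderOf (x ^ 3) = 3 := by rw [orderOf_pow' _ (by norm_num), hx]; norm_num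
  obtain ⟨c, hc | hc⟩ := dich h3
  · exact no_cube_X1 (x := c * x * c⁻¹) (by rw [conj_pow, hc])
  · have hx' : (c * x * c⁻¹) ^ 3 = X3 := by rw [conj_pow, hc]
    have hcomm : c * b * c⁻¹ * (c * x * c⁻¹) = c * x * c⁻¹ * (c * b * c⁻¹) := by
      calc c * b * c⁻¹ * (c * x * c⁻¹) = c * (b * x) * c⁻¹ := by group
        _ = c * (x * b) * c⁻¹ := by rw [hbx]
        _ = _ := by group
    have hbm : c * b * c⁻¹ * X3 = X3 * (c * b * c⁻¹) := by
      rw [← hx']
      exact ((show Commute (c * b * c⁻¹) (c * x * c⁻¹) from hcomm).pow_right 3).eq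
    have hxm : c * x * c⁻¹ * X3 = X3 * (c * x * c⁻¹) := by
      rw [← hx', ← pow_succ, ← pow_succ']
    refine false_X3 (b := ⟨c * b * c⁻¹, mem_centralizer_singleton_iff.2 hbm⟩)
      (x := ⟨c * x * c⁻¹, mem_centralizer_singleton_iff.2 hxm⟩) ?_ (Subtype.ext hx') (Subtype.ext hcomm)
    rw [← Subgroup.orderOf_coe]
    change orderOf (c * b * c⁻¹) = 5
    rw [← hb]
    exact MulEquiv.orderOf_eq (MulAut.conj c) b

end Cfsg.Agent.H680.HNF
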