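import Cfsg.Agent.H569.HNThree
import Cfsg.Agent.H678.HNT.Cent

/-!
# The centralizer of a `3B` element of `HN` has order 29160 (helper680): the part in `C(W0)`
-/

set_option autoImplicit false
set_option linter.unusedSectionVars false

namespace Cfsg.Agent.H680.HNF

open Cfsg.Agent.HN Cfsg.Agent.HN.Pres Cfsg.Agent.HN.P1408 Cfsg.Agent.HN.H0Basic Cfsg.Agent.HN.XMat
open Cfsg.Agent.HN.XStruct Cfsg.Agent.HN.XWords Cfsg.Agent.HN.XQuot Cfsg.Agent.HN.XInst
open Cfsg.Agent
open Cfsg.Agent.KFacts.HN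
open Cfsg.Agent.CpAutHN.LqFacts
open Cfsg.Agent.CpAutHN.PPFacts
open Subgroup

variable [Finite Cfsg.Spor.HN]

theorem ker_A {x v : PP} (hx : ρ x = φA c0) (hv : v ∈ ρ.ker) (h : v * x = x * v) :
    (v : Cfsg.Spor.HN) = 1 ∨ (v : Cfsg.Spor.HN) = W0 := by
  obtain ⟨m, hm, c, hvm⟩ := mem_ker_iff.1 hv
  have h1 := fix_A hm (app_eq_of_comm (hx.trans φA_c0) hm hvm h)
  rw [h1, show r Q 0 = 1 from Bas.r_zero, one_mul] at hvm
  rw [hvm]
  exact sgn0_cases c

theorem exists_lift {x : PP} (h3 : orderOf x = 3) (hx : ρ x = φA c0) {a : A5} (ha : a * c0 = c0 * a) (b : A5) :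
    ∃ w : PP, w * x = x * w ∧ ρ w = φA a * φB b := by
  obtain ⟨w, hw⟩ := ρ_surj (φA a * φB b)
  obtain ⟨q, hq, hqw⟩ := CpAutTh.RankOne.exists_comm Nat.prime_two Nat.prime_three (by norm_num) ρ isPGroup_ker
    (g := w) h3 (by
      rw [hw, hx]
      have h1 := comm_AB c0 b
      calc φA a * φB b * φA c0 = φA a * (φB b * φA c0) := by group
        _ = φA (a * c0) * φB b := by rw [← h1, map_mul]; group
        _ = φA c0 * (φA a * φB b) := by rw [ha, map_mul]; group)
  exact ⟨q * w, hqw, by rw [map_mul, (MonoidHom.mem_ker).1 hq, one_mul, hw]⟩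

theorem image_A {x v : PP} (hx : ρ x = φA c0) (h : v * x = x * v) :
    ∃ a b : A5, a * c0 = c0 * a ∧ ρ v = φA a * φB b := by
  have hc : ρ v * φA c0 = φA c0 * ρ v := by rw [← hx, ← map_mul, h, map_mul]
  obtain ⟨a, b, hab⟩ := mem_LL.1 (mem_LL_of_comm c0_ne hc)
  refine ⟨a, b, ?_, hab.symm⟩
  apply φA_inj
  rw [map_mul, map_mul]
  have h := comm_AB c0 b
  apply mul_right_cancel (b := φB b)
  rw [← hab] at hc
  calc φA a * φA c0 * φB b = φA a * (φA c0 * φB b) := by group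
    _ = φA a * φB b * φA c0 := by rw [h]; group
    _ = φA c0 * (φA a * φB b) := hc
    _ = φA c0 * φA a * φB b := by group

theorem card_A5 : Nat.card A5 = 60 := by
  rw [Nat.card_eq_fintype_card]
  decide +kernel

theorem card_range {x : PP} (h3 : orderOf x = 3) (hx : ρ x = φA c0) :
    Nat.card ↥(ρ.comp (CP x).subtype).range = 180 := by
  have hc0 : orderOf c0 = 3 := orderOf_eq_prime c0_cube c0_ne
  let C0 : Subgroup (A5 × A5) := (Subgroup.zpowers c0).prod ⊤
  have hC0 : Nat.card ↥C0 = 180 := by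
    rw [Nat.card_congr (Subgroup.prodEquiv _ _).toEquiv, Nat.card_prod, Nat.card_zpowers, hc0, Subgroup.card_top, card_A5]
  have hinj : Function.Injective φ2 := by
    rintro ⟨a, b⟩ ⟨a', b'⟩ h
    obtain ⟨h1, h2⟩ := φ2_inj h
    exact Prod.ext h1 h2
  have hmap : Nat.card ↥(C0.map φ2) = 180 := by
    rw [← hC0]
    exact (Nat.card_congr (C0.equivMapOfInjective φ2 hinj).toEquiv).symm
  have he : (ρ.comp (CP x).subtype).range = C0.map φ2 := by
    ext z
    constructor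
    · rintro ⟨v, rfl⟩
      obtain ⟨a, b, ha, hab⟩ := image_A hx (mem_centralizer_singleton_iff.1 v.2)
      refine ⟨(a, b), Subgroup.mem_prod.2 ⟨?_, mem_top _⟩, hab.symm⟩
      rcases cent_c0 ha with rfl | rfl | rfl
      · exact Subgroup.one_mem _
      · exact Subgroup.mem_zpowers _
      · exact Subgroup.mul_mem _ (Subgroup.mem_zpowers _) (Subgroup.mem_zpowers _)
    · rintro ⟨⟨a, b⟩, hab, rfl⟩
      obtain ⟨i, hi⟩ := mem_zpowers_iff.1 (Subgroup.mem_prod.1 hab).1
      have ha : a * c0 = c0 * a := by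
        change c0 ^ i = a at hi
        rw [← hi]
        exact ((Commute.refl c0).zpow_left i).eq
      obtain ⟨w, hw, hw'⟩ := exists_lift h3 hx ha b
      exact ⟨⟨w, mem_centralizer_singleton_iff.2 hw⟩, hw'⟩
  rw [he, hmap]

theorem card_ker' {x : PP} (hx : ρ x = φA c0) : Nat.card ↥(ρ.comp (CP x).subtype).ker = 2 := by
  have hW : (W0 : Cfsg.Spor.HN) ∈ PP := mem_PP.2 rfl
  have hWx : (⟨W0, hW⟩ : PP) ∈ CP x := by
    refine mem_centralizer_singleton_iff.2 (Subtype.ext ?_)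
    exact (mem_PP.1 x.2).symm
  have hWk : (⟨⟨W0, hW⟩, hWx⟩ : CP x) ∈ (ρ.comp (CP x).subtype).ker :=
    Cfsg.Agent.H569.HNThree.mem_ker_W0 (v := ⟨W0, hW⟩) rfl
  rw [Nat.card_eq_two_iff]
  refine ⟨1, ⟨⟨⟨W0, hW⟩, hWx⟩, hWk⟩, ?_, ?_⟩
  · intro h
    apply W0_ne
    have h1 := congrArg (fun y : ↥(ρ.comp (CP x).subtype).ker => (((y : ↥(CP x)) : PP) : Cfsg.Spor.HN)) h
    exact h1.symm
  · ext y
    simp only [Set.mem_insert_iff, Set.mem_singleton_iff, Set.mem_univ, iff_true]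
    have h1 : ((y : ↥(CP x)) : PP) ∈ ρ.ker := y.2
    rcases ker_A hx h1 (mem_centralizer_singleton_iff.1 (y : ↥(CP x)).2) with h | h
    · left
      exact Subtype.ext (Subtype.ext (Subtype.ext h))
    · right
      exact Subtype.ext (Subtype.ext (Subtype.ext h))

/-- **the centralizer of an element of the first type in `C(W0)`** -/
theorem card_CP {x : PP} (h3 : orderOf x = 3) (hx : ρ x = φA c0) : Nat.card ↥(CP x) = 360 := by
  rw [← (ρ.comp (CP x).subtype).ker.card_mul_index, Subgroup.index_ker, card_ker' hx, card_range h3 hx]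

theorem center_A5 : ∀ b : A5, (∀ g : A5, g * b = b * g) → b = 1 := by decide +kernel

theorem exists_lift_B {x : PP} (h3 : orderOf x = 3) (hx : ρ x = φA c0) (g : A5) :
    ∃ w ∈ CP x, ρ w = φB g := by
  obtain ⟨w, hw, hw'⟩ := exists_lift h3 hx (a := 1) (by rw [one_mul, mul_one]) g
  exact ⟨w, mem_centralizer_singleton_iff.2 hw, by rw [hw', map_one, one_mul]⟩

/-- **normal subgroups of odd order of the centralizer are in `⟨x⟩`** -/
theorem core_PP {x : PP} (h3 : orderOf x = 3) (hx : ρ x = φA c0) (N : Subgroup PP) (hN : N ≤ CP x)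
    (hn : ∀ u ∈ N, ∀ d ∈ CP x, d * u * d⁻¹ ∈ N) (hodd : Odd (Nat.card N)) {u : PP} (hu : u ∈ N) :
    u ∈ zpowers x := by
  -- the intersection with the second factor
  have hJn : ((N.map ρ).comap φB).Normal := by
    constructor
    rintro b ⟨u', hu', hub⟩ g
    obtain ⟨w, hw, hwg⟩ := exists_lift_B h3 hx g
    refine ⟨w * u' * w⁻¹, hn u' hu' w hw, ?_⟩
    change ρ (w * u' * w⁻¹) = φB (g * b * g⁻¹)
    rw [map_mul, map_mul, map_inv, hwg, hub, map_mul, map_mul, map_inv]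
  have hJodd : Odd (Nat.card ↥((N.map ρ).comap φB)) := by
    have h1 : Nat.card ↥((N.map ρ).comap φB) = Nat.card ↥(((N.map ρ).comap φB).map φB) :=
      Nat.card_congr (Subgroup.equivMapOfInjective _ φB φB_inj).toEquiv
    have h2 : ((N.map ρ).comap φB).map φB ≤ N.map ρ := Subgroup.map_comap_le _ _
    rw [h1]
    exact Odd.of_dvd_nat hodd ((Subgroup.card_dvd_of_le h2).trans (Subgroup.card_map_dvd N ρ))
  have hJ : (N.map ρ).comap φB = ⊥ := by
    have hs : IsSimpleGroup A5 := alternatingGroup.isSimpleGroup (by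
      rw [Nat.card_eq_fintype_card, Fintype.card_fin])
    rcases hJn.eq_bot_or_eq_top with h | h
    · exact h
    · exfalso
      rw [h, Subgroup.card_top, card_A5] at hJodd
      exact absurd hJodd (by decide)
  have huC := hN hu
  obtain ⟨a, b, ha, hab⟩ := image_A hx (mem_centralizer_singleton_iff.1 huC)
  have hb : b = 1 := by
    apply center_A5
    intro g
    obtain ⟨w, hw, hwg⟩ := exists_lift_B h3 hx g
    have h1 : g * b * g⁻¹ * b⁻¹ ∈ (N.map ρ).comap φB := by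
      refine ⟨w * u * w⁻¹ * u⁻¹, N.mul_mem (hn u hu w hw) (N.inv_mem hu), ?_⟩
      rw [map_mul, map_mul, map_mul, map_inv, map_inv, hwg, hab, map_mul, map_mul, map_mul, map_inv, map_inv]
      have h2 := comm_AB a g
      calc φB g * (φA a * φB b) * (φB g)⁻¹ * (φA a * φB b)⁻¹ = (φB g * φA a) * φB b * (φB g)⁻¹ * (φB b)⁻¹ * (φA a)⁻¹ := by group
        _ = φA a * (φB g * φB b * (φB g)⁻¹ * (φB b)⁻¹) * (φA a)⁻¹ := by rw [← h2]; group
        _ = φB g * φB b * (φB g)⁻¹ * (φB b)⁻¹ := by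
          have h3 := comm_AB a (g * b * g⁻¹ * b⁻¹)
          rw [map_mul, map_mul, map_mul, map_inv, map_inv] at h3
          rw [h3, mul_inv_cancel_right]
    rw [hJ, mem_bot] at h1
    calc g * b = g * b * g⁻¹ * b⁻¹ * (b * g) := by group
      _ = b * g := by rw [h1, one_mul]
  rw [hb, map_one, mul_one] at hab
  have hai : ∃ i : ℕ, a = c0 ^ i := by
    rcases cent_c0 ha with rfl | rfl | rfl
    · exact ⟨0, (pow_zero _).symm⟩
    · exact ⟨1, (pow_one _).symm⟩
    · exact ⟨2, (pow_two _).symm⟩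
  obtain ⟨i, rfl⟩ := hai
  have hux : u * x = x * u := mem_centralizer_singleton_iff.1 huC
  have hker : u * (x ^ i)⁻¹ ∈ ρ.ker := by
    rw [MonoidHom.mem_ker, map_mul, map_inv, map_pow, hab, hx, ← map_pow, mul_inv_cancel]
  have hc1 : Commute u (x ^ i)⁻¹ := ((show Commute u x from hux).pow_right i).inv_right
  have hc2 : u * (x ^ i)⁻¹ * x = x * (u * (x ^ i)⁻¹) :=
    (show Commute (u * (x ^ i)⁻¹) x from
      (show Commute u x from hux).mul_left ((Commute.refl x).pow_left i).inv_left).eq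
  rcases ker_A hx hker hc2 with h | h
  · have h1 : u * (x ^ i)⁻¹ = 1 := Subtype.ext h
    rw [mul_inv_eq_one.1 h1]
    exact pow_mem (mem_zpowers x) i
  · exfalso
    have h2 : (u * (x ^ i)⁻¹) * (u * (x ^ i)⁻¹) = 1 := by
      apply Subtype.ext
      change ((u * (x ^ i)⁻¹ : PP) : Cfsg.Spor.HN) * ((u * (x ^ i)⁻¹ : PP) : Cfsg.Spor.HN) = 1
      rw [h, W0_sq]
    have h3' : (u * (x ^ i)⁻¹) ^ 3 = u ^ 3 := by
      rw [hc1.mul_pow, inv_pow, ← pow_mul, mul_comm i 3, pow_mul, ← h3, pow_orderOf_eq_one, one_pow, inv_one, mul_one]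
    have h4 : u * (x ^ i)⁻¹ = u ^ 3 := by
      rw [← h3', pow_succ, pow_two, h2, one_mul]
    have h5 : u * (x ^ i)⁻¹ ∈ N := by rw [h4]; exact N.pow_mem hu 3
    have h6 : orderOf (⟨u * (x ^ i)⁻¹, h5⟩ : N) = 2 := by
      apply orderOf_eq_prime
      · apply Subtype.ext
        rw [pow_two]
        exact h2
      · intro h7
        have h8 : u * (x ^ i)⁻¹ = 1 := congrArg Subtype.val h7
        rw [h8] at h
        exact W0_ne h.symm
    have h7 : 2 ∣ Nat.card N := by rw [← h6]; exact orderOf_dvd_natCard _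
    exact (Nat.not_even_iff_odd.2 hodd) (even_iff_two_dvd.2 h7)

end Cfsg.Agent.H680.HNF
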