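import Cfsg.Agent.H680.HNF.CentA
import Cfsg.Agent.H569.HNThree
import Cfsg.Agent.H678.HNT.Cent
import Cfsg.Agent.CpAutTits.Row

/-!
# The centralizer of a `3B` element of `HN` has order 29160 (helper680)
-/

set_option autoImplicit false

namespace Cfsg.Agent.H680.HNF

open Subgroup Cfsg
open Cfsg.Agent
open Cfsg.Agent.HN.XWords (W0 W0_sq)
open Cfsg.Agent.KFacts.HN (PP mem_PP ρ φA φB W0_ne A5 comm_AB φB_inj ρ_surj card_PP)
open Cfsg.Agent.CpAutHN.LqFacts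
open Cfsg.Agent.CpAutHN.PPFacts
open Cfsg.Agent.CpAutHN.Alt
open Cfsg.Agent.CpAutHN.Tr
open Cfsg.Agent.CpAutHN.Pairs
open Cfsg.Agent.H569 (KleinIso.core_sup KleinIso.odd_core)
open Cfsg.Agent.H569.HNThree
open Cfsg.Agent.CpAutHN.Second
open Cfsg.Agent.CpAutHN.NineAlt
open Equiv.Perm (mem_alternatingGroup)

/-- the subgroup `C(X3) ∩ C(S3)` -/
noncomputable abbrev DG : Subgroup G := centralizer ({X3} : Set G) ⊓ centralizer ({S3} : Set G)

section tr

variable {g : G} (hg : g * X3 * g⁻¹ ∈ PP) (hs : g * S3 * g⁻¹ = W0)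

include hs in
theorem conj_mem_PP {u : G} (hu : u * S3 = S3 * u) : g * u * g⁻¹ ∈ PP := by
  rw [mem_PP, ← hs]
  calc g * u * g⁻¹ * (g * S3 * g⁻¹) = g * (u * S3) * g⁻¹ := by group
    _ = g * (S3 * u) * g⁻¹ := by rw [hu]
    _ = _ := by group

include hs in
theorem map_DG : DG.map (MulAut.conj g).toMonoidHom = (CP ⟨g * X3 * g⁻¹, hg⟩).map PP.subtype := by
  ext y
  rw [mem_map, mem_map]
  constructor
  · rintro ⟨z, ⟨hz1, hz2⟩, rfl⟩
    have hzx : z * X3 = X3 * z := mem_centralizer_singleton_iff.1 hz1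
    have hzs : z * S3 = S3 * z := mem_centralizer_singleton_iff.1 hz2
    refine ⟨⟨g * z * g⁻¹, conj_mem_PP hs hzs⟩, ?_, rfl⟩
    refine mem_centralizer_singleton_iff.2 (Subtype.ext ?_)
    change g * z * g⁻¹ * (g * X3 * g⁻¹) = g * X3 * g⁻¹ * (g * z * g⁻¹)
    calc g * z * g⁻¹ * (g * X3 * g⁻¹) = g * (z * X3) * g⁻¹ := by group
      _ = g * (X3 * z) * g⁻¹ := by rw [hzx]
      _ = _ := by group
  · rintro ⟨w, hw, rfl⟩
    have hw1 : (w : G) * (g * X3 * g⁻¹) = g * X3 * g⁻¹ * w :=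
      congrArg Subtype.val (mem_centralizer_singleton_iff.1 hw)
    have hw2 := mem_PP.1 w.2
    refine ⟨g⁻¹ * w * g, ⟨mem_centralizer_singleton_iff.2 ?_, mem_centralizer_singleton_iff.2 ?_⟩, ?_⟩
    · calc g⁻¹ * w * g * X3 = g⁻¹ * ((w : G) * (g * X3 * g⁻¹)) * g := by group
        _ = g⁻¹ * (g * X3 * g⁻¹ * w) * g := by rw [hw1]
        _ = X3 * (g⁻¹ * w * g) := by group
    · rw [← hs] at hw2
      calc g⁻¹ * w * g * S3 = g⁻¹ * ((w : G) * (g * S3 * g⁻¹)) * g := by group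
        _ = g⁻¹ * (g * S3 * g⁻¹ * w) * g := by rw [hw2]
        _ = S3 * (g⁻¹ * w * g) := by group
    · change g * (g⁻¹ * w * g) * g⁻¹ = w
      group

end tr

/-- `|C(X3) ∩ C(S3)| = 360` -/
theorem card_DG : Nat.card DG = 360 := by
  obtain ⟨g, hg, hs, hρ⟩ := t1_x3
  have h3 : orderOf (⟨g * X3 * g⁻¹, hg⟩ : PP) = 3 := order_sub hg (order_conj order_X3 g)
  rw [Nat.card_congr (DG.equivMapOfInjective (MulAut.conj g).toMonoidHom (MulAut.conj g).injective).toEquiv,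
    map_DG hg hs, ← card_CP h3 hρ]
  exact (Nat.card_congr ((CP ⟨g * X3 * g⁻¹, hg⟩).equivMapOfInjective _ PP.subtype_injective).toEquiv).symm

/-- normal subgroups of odd order of `C(X3) ∩ C(S3)` -/
theorem core_DG (N : Subgroup G) (hN : N ≤ DG) (hn : ∀ u ∈ N, ∀ d ∈ DG, d * u * d⁻¹ ∈ N) (hodd : Odd (Nat.card N))
    {u : G} (hu : u ∈ N) : u ∈ zpowers X3 := by
  obtain ⟨g, hg, hs, hρ⟩ := t1_x3
  have h3 : orderOf (⟨g * X3 * g⁻¹, hg⟩ : PP) = 3 := order_sub hg (order_conj order_X3 g)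
  have hmap := map_DG hg hs
  set M : Subgroup PP := (N.map (MulAut.conj g).toMonoidHom).comap PP.subtype with hM
  have hMmem : ∀ {v : PP}, v ∈ M ↔ ∃ n ∈ N, g * n * g⁻¹ = v := by
    intro v
    rfl
  have hMC : M ≤ CP ⟨g * X3 * g⁻¹, hg⟩ := by
    intro v hv
    obtain ⟨n, hn, hnv⟩ := hMmem.1 hv
    have h1 : (v : G) ∈ DG.map (MulAut.conj g).toMonoidHom := ⟨n, hN hn, hnv⟩
    rw [hmap] at h1
    obtain ⟨w, hw, hwv⟩ := h1
    have : w = v := Subtype.ext hwv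
    rwa [← this]
  have hMn : ∀ v ∈ M, ∀ d ∈ CP ⟨g * X3 * g⁻¹, hg⟩, d * v * d⁻¹ ∈ M := by
    intro v hv d hd
    obtain ⟨n, hnN, hnv⟩ := hMmem.1 hv
    have h1 : (d : G) ∈ (CP ⟨g * X3 * g⁻¹, hg⟩).map PP.subtype := ⟨d, hd, rfl⟩
    rw [← hmap] at h1
    obtain ⟨e, he, hed⟩ := h1
    have hed' : g * e * g⁻¹ = (d : G) := hed
    refine hMmem.2 ⟨e * n * e⁻¹, hn n hnN e he, ?_⟩
    change g * (e * n * e⁻¹) * g⁻¹ = (d : G) * v * (d : G)⁻¹
    rw [← hed', ← hnv]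
    group
  have hModd : Odd (Nat.card M) := by
    refine Odd.of_dvd_nat hodd ?_
    have h1 : Nat.card M = Nat.card ↥(M.map PP.subtype) :=
      Nat.card_congr (M.equivMapOfInjective _ PP.subtype_injective).toEquiv
    rw [h1]
    refine (Subgroup.card_dvd_of_le (Subgroup.map_comap_le _ _)).trans ?_
    exact Subgroup.card_map_dvd N _
  have h4 := core_PP h3 hρ M hMC hMn hModd (u := ⟨g * u * g⁻¹, conj_mem_PP hs (mem_centralizer_singleton_iff.1 (hN hu).2)⟩)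
    (hMmem.2 ⟨u, hu, rfl⟩)
  obtain ⟨i, hi⟩ := mem_zpowers_iff.1 h4
  have h5 : (g * X3 * g⁻¹) ^ i = g * u * g⁻¹ := congrArg Subtype.val hi
  rw [conj_zpow] at h5
  exact mem_zpowers_iff.2 ⟨i, mul_left_cancel (mul_right_cancel h5)⟩

/-! ### the core -/

/-- `X3` in its centralizer -/
noncomputable def xm : MM := ⟨X3, mem_centralizer_singleton_iff.2 rfl⟩

theorem xm_comm (y : MM) : xm * y = y * xm := Subtype.ext (mem_centralizer_singleton_iff.1 y.2).symm

theorem order_xm : orderOf xm = 3 := by rw [← Subgroup.orderOf_coe]; exact order_X3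

theorem xm_core : xm ∈ pPrimeCore 2 MM := by
  have h : zpowers xm ≤ pPrimeCore 2 MM := by
    refine Lib.Cores.le_pPrimeCore ?_ ?_
    · constructor
      intro z hz y
      obtain ⟨k, rfl⟩ := mem_zpowers_iff.1 hz
      rw [← ((show Commute xm y from xm_comm y).zpow_left k).eq, mul_inv_cancel_right]
      exact zpow_mem (mem_zpowers xm) k
    · rw [Nat.card_zpowers, order_xm]
      norm_num
  exact h (mem_zpowers xm)

theorem core_fix {m : MM} (hm : m ∈ pPrimeCore 2 MM) (h : ss * m = m * ss) : m ∈ zpowers xm := by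
  have hn : (pPrimeCore 2 MM).Normal := Lib.Cores.pPrimeCore_normal 2
  have h1 := core_DG (((pPrimeCore 2 MM) ⊓ centralizer ({ss} : Set MM)).map MM.subtype) ?_ ?_ ?_ (u := (m : G))
    ⟨m, ⟨hm, mem_centralizer_singleton_iff.2 h.symm⟩, rfl⟩
  · obtain ⟨i, hi⟩ := mem_zpowers_iff.1 h1
    exact mem_zpowers_iff.2 ⟨i, Subtype.ext hi⟩
  · rintro _ ⟨y, ⟨-, hy⟩, rfl⟩
    exact ⟨y.2, mem_centralizer_singleton_iff.2 (congrArg Subtype.val (mem_centralizer_singleton_iff.1 hy))⟩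
  · rintro _ ⟨y, ⟨hy1, hy2⟩, rfl⟩ d ⟨hd1, hd2⟩
    refine ⟨⟨d, hd1⟩ * y * ⟨d, hd1⟩⁻¹, ⟨hn.conj_mem y hy1 _, ?_⟩, rfl⟩
    have hd : (⟨d, hd1⟩ : MM) ∈ centralizer ({ss} : Set MM) :=
      mem_centralizer_singleton_iff.2 (Subtype.ext (mem_centralizer_singleton_iff.1 hd2))
    exact (centralizer ({ss} : Set MM)).mul_mem ((centralizer ({ss} : Set MM)).mul_mem hd hy2)
      ((centralizer ({ss} : Set MM)).inv_mem hd)
  · refine Odd.of_dvd_nat (KleinIso.odd_core (M := MM)) ?_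
    refine (Subgroup.card_map_dvd _ _).trans ?_
    exact Subgroup.card_dvd_of_le inf_le_left

theorem ss_sq : ss * ss = 1 := by rw [← pow_two, ← order_ss, pow_orderOf_eq_one]

/-- the image of `(9 10 11)` in `C(X3)` -/
noncomputable def x1m : MM := mk x1 x1_mem (by decide +kernel)

theorem x1m_core : x1m ∈ pPrimeCore 2 MM := mk_core _ _ _ (by decide +kernel) (by decide +kernel)

theorem comm_x1m {m : MM} (hm : m ∈ pPrimeCore 2 MM) (h3 : (orderOf m).Coprime 3) : m * x1m = x1m * m := by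
  have hn : (pPrimeCore 2 MM).Normal := Lib.Cores.pPrimeCore_normal 2
  have hfix : ∀ m ∈ pPrimeCore 2 MM, ss * m = m * ss → m ∈ zpowers xm := fun m hm h => core_fix hm h
  obtain ⟨k, hk⟩ := (CpAutTits.inv_mod xm_comm (by rw [order_xm]; decide) ss_sq (pPrimeCore 2 MM) hfix).2 m hm x1m x1m_core
  have hc : ∀ j : ℕ, m ^ j * x1m = x1m * m ^ j * xm ^ (k * j) := by
    intro j
    induction j with
    | zero => simp
    | succ j ih =>
      have h1 : ∀ y : MM, ∀ i : ℤ, xm ^ i * y = y * xm ^ i := fun y i =>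
        ((show Commute xm y from xm_comm y).zpow_left i).eq
      calc m ^ (j + 1) * x1m = m * (m ^ j * x1m) := by rw [pow_succ']; group
        _ = m * x1m * m ^ j * xm ^ (k * j) := by rw [ih]; group
        _ = x1m * m * (xm ^ k * m ^ j) * xm ^ (k * j) := by rw [hk]; group
        _ = x1m * m ^ (j + 1) * (xm ^ k * xm ^ (k * j)) := by rw [h1, pow_succ']; group
        _ = _ := by rw [← zpow_add]; congr 2; push_cast; ring
  have h1 := hc (orderOf m)
  rw [pow_orderOf_eq_one, one_mul, mul_one] at h1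
  have h2 : xm ^ (k * (orderOf m : ℤ)) = 1 := by
    have := h1.symm
    exact mul_eq_left.1 this
  have h4 : xm ^ k = 1 := by
    rw [← orderOf_dvd_iff_zpow_eq_one, order_xm] at h2 ⊢
    have h5 : IsCoprime ((3 : ℕ) : ℤ) (orderOf m : ℤ) := Nat.isCoprime_iff_coprime.2 h3.symm
    exact h5.dvd_of_dvd_mul_right h2
  rw [hk, h4, mul_one]

/-- `(0 1 2)(3 4 5)(6 7 8)` in `A9` -/
def px : Equiv.Perm (Fin 9) := cy9 [0, 1, 2] * cy9 [3, 4, 5] * cy9 [6, 7, 8]
theorem px_mem : px ∈ alternatingGroup (Fin 9) := by rw [mem_alternatingGroup]; decide +kernel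
def x9 : A9 := ⟨px, px_mem⟩

open Cfsg.Agent.Lib.AltCarmichael (cyc cyc_mem)

theorem x9_word : x9 = ⟨cyc 7 0, cyc_mem 7 0 (by norm_num)⟩ * ⟨cyc 7 3, cyc_mem 7 3 (by norm_num)⟩ *
    ⟨cyc 7 2, cyc_mem 7 2 (by norm_num)⟩ * ⟨cyc 7 5, cyc_mem 7 5 (by norm_num)⟩ *
    ⟨cyc 7 1, cyc_mem 7 1 (by norm_num)⟩ * ⟨cyc 7 4, cyc_mem 7 4 (by norm_num)⟩ *
    ⟨cyc 7 0, cyc_mem 7 0 (by norm_num)⟩ * ⟨cyc 7 3, cyc_mem 7 3 (by norm_num)⟩ *
    ⟨cyc 7 6, cyc_mem 7 6 (by norm_num)⟩ := by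
  apply Subtype.ext
  change px = cyc 7 0 * cyc 7 3 * cyc 7 2 * cyc 7 5 * cyc 7 1 * cyc 7 4 * cyc 7 0 * cyc 7 3 * cyc 7 6
  decide +kernel

theorem ι_x9 : ι x9 = ⟨x3, x3_mem⟩ := by
  rw [x9_word]
  simp only [map_mul]
  rw [ι_cyc (by norm_num), ι_cyc (by norm_num), ι_cyc (by norm_num), ι_cyc (by norm_num), ι_cyc (by norm_num),
    ι_cyc (by norm_num), ι_cyc (by norm_num)]
  apply Subtype.ext
  change qp 0 * qp 3 * qp 2 * qp 5 * qp 1 * qp 4 * qp 0 * qp 3 * qp 6 = x3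
  decide +kernel

theorem coe_x9 : ((Ψ x9 : ↥(centralizer ({X1} : Set G))) : G) = X3 := by
  rw [Ψ_coe, ι_x9]
  rfl

theorem order_dvd_x9 {a : A9} (h : a * x9 = x9 * a) : orderOf a ∣ 162 := by
  have hc : px.cycleType = {3, 3, 3} := by decide +kernel
  have h1 : Nat.card ↥(centralizer ({px} : Set (Equiv.Perm (Fin 9)))) = 162 := by
    have h := Equiv.Perm.nat_card_centralizer px
    rw [hc] at h
    rw [h]
    decide +kernel
  have hm : (a : Equiv.Perm (Fin 9)) ∈ centralizer ({px} : Set (Equiv.Perm (Fin 9))) :=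
    mem_centralizer_singleton_iff.2 (congrArg Subtype.val h)
  rw [← h1, ← Subgroup.orderOf_coe, ← Subgroup.orderOf_mk _ hm]
  exact orderOf_dvd_natCard _

/-- **the core is a 3-group** -/
theorem prime_core {r : ℕ} (hr : r.Prime) (hd : r ∣ Nat.card ↥(pPrimeCore 2 MM)) : r = 3 := by
  have hrf : Fact r.Prime := ⟨hr⟩
  obtain ⟨m, hm⟩ := exists_prime_orderOf_dvd_card' r hd
  have hm' : orderOf (m : MM) = r := by rw [Subgroup.orderOf_coe]; exact hm
  by_contra hr3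
  have hr2 : r ≠ 2 := by
    rintro rfl
    exact (Nat.not_even_iff_odd.2 (KleinIso.odd_core (M := MM))) (even_iff_two_dvd.2 hd)
  have hcop : r.Coprime 3 := (Nat.coprime_primes hr Nat.prime_three).2 hr3
  have h1 := comm_x1m m.2 (by rw [hm']; exact hcop)
  have h2 : ((m : MM) : G) * X1 = X1 * ((m : MM) : G) := congrArg Subtype.val h1
  let m1 : H678.HNT.Cent.C1 := ⟨((m : MM) : G), mem_centralizer_singleton_iff.2 h2⟩
  have hm1 : orderOf m1 = r := by
    rw [← Subgroup.orderOf_coe]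
    change orderOf ((m : MM) : G) = r
    rw [Subgroup.orderOf_coe, hm']
  obtain ⟨i, a, hia⟩ := H678.HNT.Cent.main m1
  have hx3 : (H678.HNT.Cent.xx : H678.HNT.Cent.C1) ^ 3 = 1 := by
    rw [← H678.HNT.Cent.order_xx, pow_orderOf_eq_one]
  have h3 : m1 ^ 3 = Ψ (a ^ 3) := by
    have hc : Commute (H678.HNT.Cent.xx ^ i) (Ψ a) :=
      (show Commute H678.HNT.Cent.xx (Ψ a) from H678.HNT.Cent.xx_comm _).zpow_left i
    rw [hia, hc.mul_pow, ← zpow_natCast, ← zpow_mul, mul_comm, zpow_mul, zpow_natCast, hx3, one_zpow, one_mul, map_pow]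
  obtain ⟨s, hs⟩ : ∃ s : ℕ, 3 * s ≡ 1 [MOD r] := by
    obtain ⟨s, -, hs⟩ := Nat.exists_mul_mod_eq_one_of_coprime hcop.symm hr.one_lt
    exact ⟨s, by rw [Nat.ModEq, hs, Nat.mod_eq_of_lt hr.one_lt]⟩
  have h4 : m1 = Ψ (a ^ (3 * s)) := by
    rw [pow_mul, map_pow, ← h3, ← pow_mul]
    conv_lhs => rw [← pow_one m1]
    rw [pow_eq_pow_iff_modEq, hm1]
    exact hs.symm
  have h5 : orderOf (a ^ (3 * s)) = r := by
    rw [← orderOf_injective Ψ Ψ_inj, ← h4, hm1]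
  have h6 : a ^ (3 * s) * x9 = x9 * a ^ (3 * s) := by
    apply Ψ_inj
    rw [map_mul, map_mul, ← h4]
    apply Subtype.ext
    change ((m : MM) : G) * ((Ψ x9 : ↥(centralizer ({X1} : Set G))) : G) = ((Ψ x9 : ↥(centralizer ({X1} : Set G))) : G) * ((m : MM) : G)
    rw [coe_x9]
    exact mem_centralizer_singleton_iff.1 (m : MM).2
  have h7 := order_dvd_x9 h6
  rw [h5, show (162 : ℕ) = 2 * 3 ^ 4 by norm_num] at h7
  rcases hr.dvd_mul.1 h7 with h8 | h8
  · exact hr2 ((Nat.prime_dvd_prime_iff_eq hr Nat.prime_two).1 h8)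
  · exact hr3 ((Nat.prime_dvd_prime_iff_eq hr Nat.prime_three).1 (hr.dvd_of_dvd_pow h8))

theorem main_aux : Nat.card ↥(pPrimeCore 2 MM) = 243 ∧ (pPrimeCore 2 MM).index = 120 := by
  have hn : (pPrimeCore 2 MM).Normal := Lib.Cores.pPrimeCore_normal 2
  -- the order of the core
  obtain ⟨k, hk⟩ : ∃ k, Nat.card ↥(pPrimeCore 2 MM) = 3 ^ k := by
    have h0 : Nat.card ↥(pPrimeCore 2 MM) ≠ 0 := Nat.card_pos.ne'
    exact ⟨_, Nat.eq_prime_pow_of_unique_prime_dvd h0 (fun hr hd => prime_core hr hd)⟩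
  -- `C_M(s)`
  have hD : Nat.card ↥(centralizer ({ss} : Set MM)) = 360 := by
    rw [← card_DG]
    refine Nat.card_congr
      { toFun := fun v => ⟨((v : MM) : G), (v : MM).2,
          mem_centralizer_singleton_iff.2 (congrArg Subtype.val (mem_centralizer_singleton_iff.1 v.2))⟩
        invFun := fun v => ⟨⟨(v : G), v.2.1⟩,
          mem_centralizer_singleton_iff.2 (Subtype.ext (mem_centralizer_singleton_iff.1 v.2.2))⟩
        left_inv := fun _ => rfl
        right_inv := fun _ => rfl }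
  have hinf : (pPrimeCore 2 MM) ⊓ centralizer ({ss} : Set MM) = zpowers xm := by
    apply le_antisymm
    · rintro m ⟨hm1, hm2⟩
      exact core_fix hm1 (mem_centralizer_singleton_iff.1 hm2).symm
    · rw [zpowers_le]
      exact ⟨xm_core, mem_centralizer_singleton_iff.2 (xm_comm ss)⟩
  have h1 : Nat.card ↥((pPrimeCore 2 MM) ⊓ centralizer ({ss} : Set MM)) = 3 := by
    rw [hinf, Nat.card_zpowers, order_xm]
  have h2 := relIndex_mul_relIndex ⊥ ((pPrimeCore 2 MM) ⊓ centralizer ({ss} : Set MM)) (centralizer ({ss} : Set MM))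
    bot_le inf_le_right
  rw [relIndex_bot_left, relIndex_bot_left, inf_relIndex_right, h1, hD] at h2
  have h3 : (pPrimeCore 2 MM).index = (pPrimeCore 2 MM).relIndex (centralizer ({ss} : Set MM)) := by
    have h4 := KleinIso.core_sup order_ss comm_core
    rw [← relIndex_top_right, ← h4]
    exact relIndex_sup_left _ _
  have h4 := (pPrimeCore 2 MM).card_mul_index
  rw [h3, show (pPrimeCore 2 MM).relIndex (centralizer ({ss} : Set MM)) = 120 by omega, hk] at h4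
  -- the 3-part
  have h5 := MM.card_mul_index
  rw [← h4, card_G] at h5
  have h6 := index_X3
  have h7 : k = 5 := by
    have hv : (3 ^ k * 120 * MM.index).factorization 3 = (273030912000000 : ℕ).factorization 3 := by rw [h5]
    have hi0 : MM.index ≠ 0 := by
      intro h0
      rw [h0, mul_zero] at h5
      norm_num at h5
    rw [Nat.factorization_mul (by positivity) hi0, Nat.factorization_mul (by positivity) (by norm_num),
      Nat.Prime.factorization_pow Nat.prime_three, Finsupp.add_apply, Finsupp.add_apply,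
      Nat.factorization_eq_zero_of_not_dvd h6, Finsupp.single_eq_same] at hv
    have e1 : (120 : ℕ).factorization 3 = 1 := by
      rw [show (120 : ℕ) = 3 ^ 1 * 40 by norm_num, Nat.factorization_mul (by norm_num) (by norm_num),
        Nat.Prime.factorization_pow Nat.prime_three, Finsupp.add_apply, Finsupp.single_eq_same,
        Nat.factorization_eq_zero_of_not_dvd (show ¬ 3 ∣ 40 by norm_num)]
    have e2 : (273030912000000 : ℕ).factorization 3 = 6 := by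
      rw [show (273030912000000 : ℕ) = 3 ^ 6 * 374528000000 by norm_num,
        Nat.factorization_mul (by norm_num) (by norm_num),
        Nat.Prime.factorization_pow Nat.prime_three, Finsupp.add_apply, Finsupp.single_eq_same,
        Nat.factorization_eq_zero_of_not_dvd (show ¬ 3 ∣ 374528000000 by norm_num)]
    rw [e1, e2] at hv
    omega
  refine ⟨by rw [hk, h7]; norm_num, ?_⟩
  rw [h3]
  omega

/-- `|O(C(X3))| = 3^5` -/
theorem card_core : Nat.card ↥(pPrimeCore 2 MM) = 243 := main_aux.1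

/-- `|C(X3) : O(C(X3))| = 120` -/
theorem index_core : (pPrimeCore 2 MM).index = 120 := main_aux.2

/-- **`|C(X3)| = 29160`** -/
theorem card_cent_X3 : Nat.card ↥(centralizer ({X3} : Set G)) = 29160 := by
  have h := (pPrimeCore 2 MM).card_mul_index
  rw [card_core, index_core] at h
  change Nat.card MM = 29160
  omega

/-- `|C(S3 X3)| = 360` -/
theorem card_cent_S3X3 : Nat.card ↥(centralizer ({S3 * X3} : Set G)) = 360 := by
  have h : centralizer ({S3 * X3} : Set G) = DG := by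
    have hc : Commute S3 X3 := S3X3
    have hs : S3 ^ 2 = 1 := by rw [← order_S3, pow_orderOf_eq_one]
    have hx : X3 ^ 3 = 1 := by rw [← order_X3, pow_orderOf_eq_one]
    have e1 : (S3 * X3) ^ 4 = X3 := by
      rw [hc.mul_pow, show 4 = 2 * 2 by norm_num, pow_mul, hs, one_pow, one_mul, show 2 * 2 = 3 + 1 by norm_num, pow_add, hx,
        one_mul, pow_one]
    have e2 : (S3 * X3) ^ 3 = S3 := by
      rw [hc.mul_pow, hx, mul_one, pow_succ, hs, one_mul]
    ext y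
    rw [mem_inf, mem_centralizer_singleton_iff, mem_centralizer_singleton_iff, mem_centralizer_singleton_iff]
    constructor
    · intro h
      have h' : Commute y (S3 * X3) := h
      refine ⟨?_, ?_⟩
      · have := (h'.pow_right 4).eq
        rwa [e1] at this
      · have := (h'.pow_right 3).eq
        rwa [e2] at this
    · rintro ⟨h1, h2⟩
      exact ((show Commute y S3 from h2).mul_right h1).eq
  rw [h, card_DG]

/-! ### the quotient -/

theorem A5_no_15 : ∀ g : A5, g ^ 15 = 1 → g ^ 5 = 1 ∨ g ^ 3 = 1 := by decide +kernel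

/-- the elements of `C(X3) ∩ C(S3)` -/
theorem DG_quot {u : G} (hu : u ∈ DG) (h : ∃ i : ℕ, u ^ 15 = X3 ^ i) : ∃ i : ℕ, u ^ 10 = X3 ^ i ∨ u ^ 6 = X3 ^ i := by
  obtain ⟨g, hg, hs, hρ⟩ := t1_x3
  have h3 : orderOf (⟨g * X3 * g⁻¹, hg⟩ : PP) = 3 := order_sub hg (order_conj order_X3 g)
  have hmap := map_DG hg hs
  have h1 : g * u * g⁻¹ ∈ DG.map (MulAut.conj g).toMonoidHom := ⟨u, hu, rfl⟩
  rw [hmap] at h1
  obtain ⟨w, hw, hwu⟩ := h1
  have hwu' : (w : G) = g * u * g⁻¹ := hwu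
  have hwc : w * ⟨g * X3 * g⁻¹, hg⟩ = ⟨g * X3 * g⁻¹, hg⟩ * w := mem_centralizer_singleton_iff.1 hw
  obtain ⟨a, b, ha, hab⟩ := image_A hρ hwc
  have hcab : Commute (φA a) (φB b) := comm_AB a b
  have hpow : ∀ n : ℕ, ρ (w ^ n) = φA (a ^ n) * φB (b ^ n) := by
    intro n
    rw [map_pow, hab, hcab.mul_pow, map_pow, map_pow]
  -- the second component
  obtain ⟨i, hi⟩ := h
  have hb15 : b ^ 15 = 1 := by
    have h4 : w ^ 15 = ⟨g * X3 * g⁻¹, hg⟩ ^ i := by
      apply Subtype.ext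
      change (w : G) ^ 15 = (g * X3 * g⁻¹) ^ i
      rw [hwu', conj_pow, conj_pow, hi]
    have h5 := hpow 15
    rw [h4, map_pow, hρ, ← map_pow] at h5
    have h6 : φA (c0 ^ i) * φB 1 = φA (a ^ 15) * φB (b ^ 15) := by rw [map_one, mul_one]; exact h5
    exact (Cfsg.Agent.KFacts.HN.φ2_inj h6).2.symm
  -- a power in the kernel
  have key : ∀ n : ℕ, b ^ n = 1 → ∃ j : ℕ, u ^ (2 * n) = X3 ^ j := by
    intro n hn
    obtain ⟨j, hj⟩ : ∃ j : ℕ, a ^ n = c0 ^ j := by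
      rcases cent_c0 ha with rfl | rfl | rfl
      · exact ⟨0, by rw [one_pow, pow_zero]⟩
      · exact ⟨n, rfl⟩
      · exact ⟨2 * n, by rw [← pow_two, ← pow_mul]⟩
    have h4 : w ^ n * (⟨g * X3 * g⁻¹, hg⟩ ^ j)⁻¹ ∈ ρ.ker := by
      have e : ρ (⟨g * X3 * g⁻¹, hg⟩ ^ j) = φA (c0 ^ j) := by rw [map_pow, hρ, map_pow]
      rw [MonoidHom.mem_ker, map_mul, hpow, hn, hj, map_one, mul_one, map_inv, e, mul_inv_cancel]
    have hcw : Commute w ⟨g * X3 * g⁻¹, hg⟩ := hwc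
    have hc2 : Commute (w ^ n) (⟨g * X3 * g⁻¹, hg⟩ ^ j)⁻¹ := ((hcw.pow_left n).pow_right j).inv_right
    have h5 : w ^ n * (⟨g * X3 * g⁻¹, hg⟩ ^ j)⁻¹ * ⟨g * X3 * g⁻¹, hg⟩ =
        ⟨g * X3 * g⁻¹, hg⟩ * (w ^ n * (⟨g * X3 * g⁻¹, hg⟩ ^ j)⁻¹) :=
      (show Commute (w ^ n * (⟨g * X3 * g⁻¹, hg⟩ ^ j)⁻¹) ⟨g * X3 * g⁻¹, hg⟩ from
        (hcw.pow_left n).mul_left ((Commute.refl _).pow_left j).inv_left).eq
    have h6 : (w ^ n * (⟨g * X3 * g⁻¹, hg⟩ ^ j)⁻¹) ^ 2 = 1 := by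
      apply Subtype.ext
      rcases ker_A hρ h4 h5 with h | h
      · change ((w ^ n * (⟨g * X3 * g⁻¹, hg⟩ ^ j)⁻¹ : PP) : G) ^ 2 = 1
        rw [h, one_pow]
      · change ((w ^ n * (⟨g * X3 * g⁻¹, hg⟩ ^ j)⁻¹ : PP) : G) ^ 2 = 1
        rw [h, pow_two, W0_sq]
    rw [hc2.mul_pow, inv_pow, mul_inv_eq_one, ← pow_mul, ← pow_mul] at h6
    refine ⟨j * 2, ?_⟩
    have h7 : (w : G) ^ (n * 2) = (g * X3 * g⁻¹) ^ (j * 2) := congrArg Subtype.val h6
    rw [hwu', conj_pow, conj_pow] at h7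
    rw [mul_comm 2 n]
    exact mul_left_cancel (mul_right_cancel h7)
  rcases A5_no_15 b hb15 with h | h
  · obtain ⟨j, hj⟩ := key 5 h
    exact ⟨j, Or.inl hj⟩
  · obtain ⟨j, hj⟩ := key 3 h
    exact ⟨j, Or.inr hj⟩

/-- **`C(X3) / O(C(X3))` has no elements of order 15** -/
theorem no_fifteen {m : MM} (h : m ^ 15 ∈ pPrimeCore 2 MM) : m ^ 10 ∈ pPrimeCore 2 MM ∨ m ^ 6 ∈ pPrimeCore 2 MM := by
  have hn : (pPrimeCore 2 MM).Normal := Lib.Cores.pPrimeCore_normal 2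
  have h2 : m ∈ pPrimeCore 2 MM ⊔ centralizer ({ss} : Set MM) := by
    rw [KleinIso.core_sup order_ss comm_core]; exact mem_top _
  obtain ⟨n, hnn, c, hc, rfl⟩ := mem_sup_of_normal_left.1 h2
  have hq : ∀ k : ℕ, (n * c) ^ k ∈ pPrimeCore 2 MM ↔ c ^ k ∈ pPrimeCore 2 MM := by
    intro k
    have h3 : (QuotientGroup.mk' (pPrimeCore 2 MM)) (n * c) = (QuotientGroup.mk' (pPrimeCore 2 MM)) c := by
      rw [map_mul, (QuotientGroup.eq_one_iff n).2 hnn |> (fun h => (h : (QuotientGroup.mk' (pPrimeCore 2 MM)) n = 1)), one_mul]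
    rw [← QuotientGroup.ker_mk' (pPrimeCore 2 MM), MonoidHom.mem_ker, MonoidHom.mem_ker, map_pow, map_pow, h3]
  rw [hq] at h
  rw [hq, hq]
  have hcs : ∀ k : ℕ, c ^ k ∈ pPrimeCore 2 MM → ∃ i : ℕ, (c : G) ^ k = X3 ^ i := by
    intro k hk
    have h3 := core_fix hk ((mem_centralizer_singleton_iff.1 ((centralizer ({ss} : Set MM)).pow_mem hc k)).symm)
    obtain ⟨i, hi⟩ := (mem_powers_iff_mem_zpowers (x := xm)).2 h3
    exact ⟨i, (congrArg Subtype.val hi).symm⟩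
  have hDG : (c : G) ∈ DG := ⟨c.2, mem_centralizer_singleton_iff.2 (congrArg Subtype.val (mem_centralizer_singleton_iff.1 hc))⟩
  have hback : ∀ k i : ℕ, (c : G) ^ k = X3 ^ i → c ^ k ∈ pPrimeCore 2 MM := by
    intro k i hk
    have h3 : c ^ k = xm ^ i := Subtype.ext hk
    rw [h3]
    exact (pPrimeCore 2 MM).pow_mem xm_core i
  obtain ⟨i, hi | hi⟩ := DG_quot hDG (hcs 15 h)
  · exact Or.inl (hback _ _ hi)
  · exact Or.inr (hback _ _ hi)

end Cfsg.Agent.H680.HNF
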